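import Cfsg.Agent.BC86.Principal
import Cfsg.Agent.BC87.Basic
import Cfsg.Agent.Lib.CharInd.BilinearForm
import Cfsg.Agent.Lib.BlocksDefect.PrincipalSection
import Cfsg.Agent.S4475
import Mathlib.GroupTheory.Transfer
import Mathlib.Tactic.LinearCombination

/-!
# Principal blocks with three characters: general lemmas
-/

set_option autoImplicit false

namespace Cfsg.Agent.K3B9

open BlocksCore BlocksDefect
open scoped ComplexConjugate

variable {G : Type*} [Group G] [Fintype G] {p : ℕ} {M : Ideal AlgInt}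

/-- A character of the principal block cut down to the `p`-regular elements stays in the span. -/
theorem regPart_eq_sum (hM : IsPModular p M)
    [DecidablePred (· ∈ principalBlock M G)] {θ : IrrCharacter G}
    (hθ : θ ∈ principalBlock M G) :
    ∃ c : IrrCharacter G → ℂ,
      (∀ φ, c φ = classInner (fun g => if p ∣ orderOf g then 0 else (θ : G → ℂ) g) φ) ∧
      ∀ g, (if p ∣ orderOf g then 0 else (θ : G → ℂ) g) =
        ∑ φ ∈ Finset.univ.filter (· ∈ principalBlock M G), c φ * (φ : G → ℂ) g := by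
  classical
  haveI := isPrime hM
  set f : G → ℂ := fun g => if p ∣ orderOf g then 0 else (θ : G → ℂ) g with hf
  have hcl : IsClassFunction G f := fun g h => by
    simp only [hf]
    rw [show orderOf (h * g * h⁻¹) = orderOf g from MulEquiv.orderOf_eq (MulAut.conj h) g,
      irr_class θ g h]
  refine ⟨fun φ => classInner f φ, fun φ => rfl, fun g => ?_⟩
  have h0 : ∀ φ : IrrCharacter G, φ ∉ principalBlock M G → classInner f φ = 0 := by
    intro φ hφ
    have hns : ¬ SameBlock M (θ : G → ℂ) (φ : G → ℂ) := fun hs =>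
      hφ (sameBlock_trans hθ hs)
    have h := sum_pRegular_mul_conj hM θ φ hns
    rw [finsum_mem_def, finsum_eq_sum_of_fintype] at h
    rw [classInner]
    convert mul_zero _
    rw [← h]
    refine Finset.sum_congr rfl fun x _ => ?_
    by_cases hx : p ∣ orderOf x <;> simp [hf, Set.indicator, hx]
  show f g = _
  conv_lhs => rw [CharCore.eq_sum_classInner hcl]
  rw [Finset.sum_apply]
  simp only [Pi.smul_apply, smul_eq_mul]
  refine (Finset.sum_subset (Finset.subset_univ _) fun φ _ hφ => ?_).symm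
  rw [h0 φ (fun h => hφ (Finset.mem_filter.2 ⟨Finset.mem_univ _, h⟩)), zero_mul]

/-- The sum of a character over a subgroup is a natural multiple of the order of the subgroup. -/
theorem exists_sum_subgroup_eq (θ : IrrCharacter G) (H : Subgroup G) [Fintype H] :
    ∃ m : ℕ, ∑ x : H, (θ : G → ℂ) x = (Nat.card H : ℂ) * m := by
  obtain ⟨n, ρ, -, h⟩ := θ.2
  have hcard : (Nat.card H : ℂ) ≠ 0 := Nat.cast_ne_zero.2 Nat.card_pos.ne'
  haveI : Invertible (Nat.card H : ℂ) := invertibleOfNonzero hcard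
  refine ⟨Module.finrank ℂ (Representation.invariants (ρ.comp H.subtype)), ?_⟩
  rw [← Representation.card_inv_mul_sum_char_eq_finrank (ρ.comp H.subtype), ← mul_assoc,
    mul_inv_cancel₀ hcard, one_mul]
  refine Finset.sum_congr rfl fun x _ => ?_
  rw [← h]
  rfl

/-- A value taken at all nontrivial elements of a `p`-subgroup is an integer congruent to the
degree. -/
theorem exists_int_value (θ : IrrCharacter G) (H : Subgroup G) (hH : 1 < Nat.card H) {c : ℂ}
    (hc : ∀ x ∈ H, x ≠ 1 → (θ : G → ℂ) x = c) :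
    ∃ a : ℤ, c = (a : ℂ) ∧
      (Nat.card H : ℤ) ∣ ((charDegree (θ : G → ℂ) : ℕ) : ℤ) - a := by
  classical
  haveI := Fintype.ofFinite H
  obtain ⟨m, hm⟩ := exists_sum_subgroup_eq θ H
  have hsum : ∑ x : H, (θ : G → ℂ) x =
      (charDegree (θ : G → ℂ) : ℂ) + ((Nat.card H : ℂ) - 1) * c := by
    rw [Fintype.sum_eq_add_sum_compl (1 : H), OneMemClass.coe_one, BC87.apply_one_eq]
    congr 1
    rw [Finset.sum_congr rfl fun (x : H) hx => hc (x : G) x.2 (fun h => by simp [Subtype.ext_iff, h] at hx), Finset.sum_const, Finset.card_compl,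
      Finset.card_singleton, nsmul_eq_mul, ← Nat.card_eq_fintype_card, Nat.cast_sub hH.le,
      Nat.cast_one]
  obtain ⟨x, hx, hx1⟩ : ∃ x ∈ H, x ≠ 1 := by
    by_contra hne
    push Not at hne
    have : H = ⊥ := (Subgroup.eq_bot_iff_forall H).2 hne
    rw [this, Subgroup.card_bot] at hH
    omega
  have hint : IsIntegral ℤ c := hc x hx hx1 ▸ isIntegral_irr θ x
  have hk : ((Nat.card H : ℂ) - 1) ≠ 0 := by
    rw [sub_ne_zero]
    exact_mod_cast hH.ne'
  have hq : c = ((((Nat.card H : ℚ) * m - charDegree (θ : G → ℂ)) / ((Nat.card H : ℚ) - 1) : ℚ) : ℂ) := by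
    push_cast
    rw [eq_div_iff hk]
    linear_combination hsum.symm.trans hm
  rw [hq] at hint
  obtain ⟨a, ha⟩ := IsIntegrallyClosed.isIntegral_iff.1
    ((isIntegral_algebraMap_iff (algebraMap ℚ ℂ).injective).1 hint)
  have hca : c = (a : ℂ) := by
    rw [hq, ← ha]
    simp
  refine ⟨a, hca, (m : ℤ) - a, ?_⟩
  have h2 : ((charDegree (θ : G → ℂ) : ℤ) : ℂ) - (a : ℂ) =
      (((Nat.card H : ℤ) * ((m : ℤ) - a) : ℤ) : ℂ) := by
    push_cast
    linear_combination (hsum.symm.trans hm) + ((Nat.card H : ℂ) - 1) * hca.symm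
  exact_mod_cast h2

/-- The indicator of a real irreducible character is `1` or `-1`. -/
theorem indicator_sq (θ : IrrCharacter G) (hreal : ∀ g, ((θ : G → ℂ) g).im = 0) :
    ((Nat.card G : ℂ)⁻¹ * ∑ s : G, (θ : G → ℂ) (s * s)) ^ 2 = 1 := by
  obtain ⟨n, ρ, hirr, h⟩ := θ.2
  obtain ⟨⟨B, hB0, hB⟩, hall⟩ := S4475.result n ρ hirr (fun g => by rw [h]; exact hreal g)
  have h1 := hall B hB
  rw [h] at h1
  set ν := (Nat.card G : ℂ)⁻¹ * ∑ s : G, (θ : G → ℂ) (s * s)
  have h2 : B = (ν ^ 2) • B := by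
    conv_lhs => rw [← Matrix.transpose_transpose B, h1, Matrix.transpose_smul, h1, smul_smul, ← pow_two]
  by_contra hne
  have : (1 - ν ^ 2) • B = 0 := by rw [sub_smul, one_smul, ← h2, sub_self]
  rcases smul_eq_zero.1 this with h3 | h3
  · exact hne (sub_eq_zero.1 h3).symm
  · exact hB0 h3

omit [Fintype G] in
theorem not_dvd_orderOf_mul_self_iff (hp : p.Prime) (hp2 : p ≠ 2) (g : G) :
    p ∣ orderOf (g * g) ↔ p ∣ orderOf g := by
  rw [← pow_two, orderOf_pow' g two_ne_zero]
  constructor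
  · intro h
    exact h.trans (Nat.div_dvd_of_dvd (Nat.gcd_dvd_left _ _))
  · intro h
    have hco : Nat.Coprime p (Nat.gcd (orderOf g) 2) :=
      Nat.Coprime.coprime_dvd_right (Nat.gcd_dvd_right _ _)
        ((Nat.coprime_primes hp Nat.prime_two).2 hp2)
    have h2 : Nat.gcd (orderOf g) 2 * (orderOf g / Nat.gcd (orderOf g) 2) = orderOf g :=
      Nat.mul_div_cancel' (Nat.gcd_dvd_left _ _)
    exact hco.dvd_of_dvd_mul_left (h2.symm ▸ h)

end Cfsg.Agent.K3B9
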