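import Cfsg.Agent.K3B9.Basic

/-!
# Principal blocks with three characters: values at the singular elements
-/

set_option autoImplicit false

namespace Cfsg.Agent.K3B9

open BlocksCore BlocksDefect
open scoped ComplexConjugate

variable {G : Type*} [Group G] [Fintype G] {p : ℕ} {M : Ideal AlgInt}

/-- If some character of the block is not constant on the regular elements, every character of
the block is constant on the singular ones. -/
theorem const_of_three (hM : IsPModular p M) (hk : Nat.card (principalBlock M G) = 3)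
    {χ : IrrCharacter G} (hχ : χ ∈ principalBlock M G) {g0 : G} (hg0 : ¬ p ∣ orderOf g0)
    (hne : (χ : G → ℂ) g0 ≠ (χ : G → ℂ) 1) {θ : IrrCharacter G}
    (hθ : θ ∈ principalBlock M G) {s1 s2 : G} (h1 : p ∣ orderOf s1) (h2 : p ∣ orderOf s2) :
    (θ : G → ℂ) s1 = (θ : G → ℂ) s2 := by
  classical
  haveI := isPrime hM
  by_contra hs
  set Bf := Finset.univ.filter (· ∈ principalBlock M G) with hBf
  have hcard : Bf.card = 3 := by
    rw [← hk, Nat.card_eq_fintype_card, ← Set.toFinset_card]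
    exact Finset.card_bij (fun x _ => x) (fun x hx => Set.mem_toFinset.2 (Finset.mem_filter.1 hx).2)
      (fun _ _ _ _ h => h)
      (fun x hx => ⟨x, Finset.mem_filter.2 ⟨Finset.mem_univ _, Set.mem_toFinset.1 hx⟩, rfl⟩)
  obtain ⟨c1, -, hc1⟩ := regPart_eq_sum hM (oneIrr_mem (G := G) (M := M))
  obtain ⟨c2, -, hc2⟩ := regPart_eq_sum hM hχ
  obtain ⟨c3, -, hc3⟩ := regPart_eq_sum hM hθ
  let pt : Fin 4 → G := ![1, g0, s1, s2]
  let T : (↥Bf → ℂ) →ₗ[ℂ] (Fin 4 → ℂ) :=
    { toFun := fun v i => ∑ φ : ↥Bf, v φ * (φ.1 : G → ℂ) (pt i)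
      map_add' := fun v w => by
        funext i
        simp [add_mul, Finset.sum_add_distrib]
      map_smul' := fun c v => by
        funext i
        simp [Finset.mul_sum, mul_assoc] }
  have hsurj : Function.Surjective T := by
    intro w
    set β : ℂ := (w 1 - w 0) / ((χ : G → ℂ) g0 - (χ : G → ℂ) 1) with hβ
    set δ : ℂ := (w 3 - w 2) / ((θ : G → ℂ) s2 - (θ : G → ℂ) s1) with hδ
    set α : ℂ := w 0 - β * (χ : G → ℂ) 1 with hα
    set γ : ℂ := w 2 - δ * (θ : G → ℂ) s1 with hγ
    have hβ' : β * ((χ : G → ℂ) g0 - (χ : G → ℂ) 1) = w 1 - w 0 :=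
      div_mul_cancel₀ _ (sub_ne_zero.2 hne)
    have hδ' : δ * ((θ : G → ℂ) s2 - (θ : G → ℂ) s1) = w 3 - w 2 :=
      div_mul_cancel₀ _ (sub_ne_zero.2 (Ne.symm hs))
    refine ⟨fun φ => α * c1 φ + β * c2 φ + γ * ((if φ.1 = oneIrr G then 1 else 0) - c1 φ) +
      δ * ((if φ.1 = θ then 1 else 0) - c3 φ), funext fun i => ?_⟩
    have hval : ∀ g : G, (∑ φ : ↥Bf, (α * c1 φ + β * c2 φ +
        γ * ((if φ.1 = oneIrr G then 1 else 0) - c1 φ) +
        δ * ((if φ.1 = θ then 1 else 0) - c3 φ)) * (φ.1 : G → ℂ) g) =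
        if p ∣ orderOf g then γ + δ * (θ : G → ℂ) g else α + β * (χ : G → ℂ) g := by
      intro g
      rw [Finset.sum_coe_sort Bf fun φ => (α * c1 φ + β * c2 φ +
        γ * ((if φ = oneIrr G then 1 else 0) - c1 φ) +
        δ * ((if φ = θ then 1 else 0) - c3 φ)) * (φ : G → ℂ) g]
      simp only [add_mul, sub_mul, mul_assoc, Finset.sum_add_distrib, ← Finset.mul_sum,
        Finset.sum_sub_distrib, hBf, ← hc1 g, ← hc2 g, ← hc3 g, ite_mul, one_mul, zero_mul,
        Finset.sum_ite_eq', Finset.mem_filter, Finset.mem_univ, true_and, hθ, oneIrr_mem,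
        if_true]
      by_cases hg : p ∣ orderOf g <;> simp [hg, oneIrr]
    refine (hval (pt i)).trans ?_
    fin_cases i <;> simp [pt, h1, h2, hg0, orderOf_one, hM.1.ne_one]
    · rw [hα]; ring
    · rw [hα]; linear_combination hβ'
    · rw [hγ]; ring
    · rw [hγ]; linear_combination hδ'
  have h4 := T.finrank_range_add_finrank_ker
  rw [LinearMap.range_eq_top.2 hsurj, finrank_top, Module.finrank_fintype_fun_eq_card,
    Module.finrank_fintype_fun_eq_card, Fintype.card_fin, Fintype.card_coe, hcard] at h4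
  omega

end Cfsg.Agent.K3B9
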