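import Cfsg.Agent.K3B9.Basic

/-!
# Principal blocks with three characters: arithmetic and small pieces
-/

set_option autoImplicit false

namespace Cfsg.Agent.K3B9

open BlocksCore BlocksDefect
open scoped ComplexConjugate

variable {G : Type*} [Group G] [Fintype G] {p : ℕ} {M : Ideal AlgInt}

/-- The sum of an irreducible character over the group. -/
theorem sum_irr (φ : IrrCharacter G) :
    ∑ g : G, (φ : G → ℂ) g = if φ = oneIrr G then (Nat.card G : ℂ) else 0 := by
  classical
  have h := sum_char_mul_inv φ (oneIrr G)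
  simpa [oneIrr] using h

theorem nat_square_split (hp : p.Prime) {i j n : ℕ}
    (h : 1 + (p ^ i) ^ 2 + (p ^ j) ^ 2 = p ^ n) : p ^ n = 3 := by
  have key : ∀ k : ℕ, 2 + (p ^ k) ^ 2 = p ^ n → p ^ n = 3 := by
    intro k hk
    rcases Nat.eq_zero_or_pos k with rfl | hk0
    · rw [← hk]; norm_num
    exfalso
    have hn : n ≠ 0 := by
      rintro rfl
      rw [pow_zero] at hk
      omega
    have hd1 : p ∣ (p ^ k) ^ 2 := dvd_pow (dvd_pow_self p hk0.ne') two_ne_zero
    have hd2 : p ∣ 2 + (p ^ k) ^ 2 := hk ▸ dvd_pow_self p hn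
    have hp2 : p = 2 := (Nat.prime_dvd_prime_iff_eq hp Nat.prime_two).1 ((Nat.dvd_add_left hd1).1 hd2)
    subst hp2
    have h4 : 4 ∣ (2 ^ k) ^ 2 := by
      have := pow_dvd_pow_of_dvd (dvd_pow_self 2 hk0.ne') 2
      simpa using this
    have hn2 : 2 ≤ n := by
      by_contra hlt
      have : n = 1 := by omega
      subst this
      rw [pow_one] at hk
      have : 0 < (2 ^ k) ^ 2 := by positivity
      omega
    have : 4 ∣ 2 ^ n := pow_dvd_pow 2 hn2
    omega
  rcases Nat.eq_zero_or_pos i with rfl | hi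
  · exact key j (by rw [← h]; norm_num)
  rcases Nat.eq_zero_or_pos j with rfl | hj
  · exact key i (by rw [← h]; ring)
  exfalso
  have hn : n ≠ 0 := by
    rintro rfl
    rw [pow_zero] at h
    have : 0 < (p ^ i) ^ 2 := pow_pos (pow_pos hp.pos _) _
    omega
  have hd1 : p ∣ (p ^ i) ^ 2 := dvd_pow (dvd_pow_self p hi.ne') two_ne_zero
  have hd2 : p ∣ (p ^ j) ^ 2 := dvd_pow (dvd_pow_self p hj.ne') two_ne_zero
  have hd : p ∣ 1 + (p ^ i) ^ 2 + (p ^ j) ^ 2 := h ▸ dvd_pow_self p hn
  exact hp.one_lt.ne' (Nat.dvd_one.1 ((Nat.dvd_add_left hd1).1 ((Nat.dvd_add_left hd2).1 hd)))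

/-- Index two: the elements of odd order of a group with Sylow `2`-subgroups of order two. -/
theorem card_odd_of_sylow_two (D : Sylow 2 G) (hD : Nat.card (D : Subgroup G) = 2) :
    2 * (Finset.univ.filter fun g : G => ¬ 2 ∣ orderOf g).card = Nat.card G := by
  classical
  haveI : Fact (Nat.Prime 2) := ⟨Nat.prime_two⟩
  have hcyc : IsCyclic (D : Subgroup G) := isCyclic_of_prime_card hD
  have heven : 2 ∣ Nat.card G := hD ▸ Subgroup.card_subgroup_dvd_card _
  have hmin : (Nat.card G).minFac = 2 := (Nat.minFac_eq_two_iff _).2 heven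
  have hP := IsCyclic.normalizer_le_centralizer (P := D) hmin hcyc
  have hc := MonoidHom.ker_transferSylow_isComplement' D hP
  have hK := MonoidHom.not_dvd_card_ker_transferSylow D hP
  set K := (MonoidHom.transferSylow D hP).ker
  have hKR : ∀ g : G, g ∈ K ↔ ¬ 2 ∣ orderOf g := by
    refine fun g => ⟨fun hg h2 => hK (h2.trans ?_), fun hg => ?_⟩
    · rw [← Subgroup.orderOf_mk g hg]
      exact orderOf_dvd_natCard _
    · rw [MonoidHom.mem_ker, ← orderOf_eq_one_iff]
      have h1 := orderOf_map_dvd (MonoidHom.transferSylow D hP) g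
      have h2 := orderOf_dvd_natCard (MonoidHom.transferSylow D hP g)
      rw [hD] at h2
      rcases (Nat.dvd_prime Nat.prime_two).1 h2 with h3 | h3
      · exact h3
      · exact absurd (h3 ▸ h1) hg
  have hcardK : (Finset.univ.filter fun g : G => ¬ 2 ∣ orderOf g).card = Nat.card K := by
    rw [← Fintype.card_subtype, ← Nat.card_eq_fintype_card]
    exact Nat.card_congr (Equiv.subtypeEquivRight fun g => (hKR g).symm)
  rw [hcardK, ← hc.card_mul, hD, mul_comm]

end Cfsg.Agent.K3B9
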