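import Cfsg.Agent.K3B9.Const
import Cfsg.Agent.K3B9.Parts

/-!
# A principal block with three characters has Sylow subgroups of order three
-/

set_option autoImplicit false

namespace Cfsg.Agent.K3B9

open BlocksCore BlocksDefect
open scoped ComplexConjugate

variable {G : Type*} [Group G] [Fintype G] {p : ℕ} [hp : Fact p.Prime] {M : Ideal AlgInt}

/-- All members constant on the regular elements: the nilpotent case. -/
theorem case_regular_const (hM : IsPModular p M) (D : Sylow p G)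
    {χ ψ : IrrCharacter G}
    (hB : ∀ φ : IrrCharacter G, φ ∈ principalBlock M G ↔ φ = oneIrr G ∨ φ = χ ∨ φ = ψ)
    (h1 : oneIrr G ≠ χ) (h2 : oneIrr G ≠ ψ) (h3 : χ ≠ ψ)
    (hI : ∀ θ ∈ principalBlock M G, ∀ g : G, ¬ p ∣ orderOf g → (θ : G → ℂ) g = (θ : G → ℂ) 1) :
    Nat.card (D : Subgroup G) = 3 := by
  classical
  haveI := isPrime hM
  let N : Subgroup G := ⨅ θ : {θ : IrrCharacter G // θ ∈ principalBlock M G}, BC87.kerChar θ.1
  haveI hNn : N.Normal := Subgroup.normal_iInf_normal fun θ => BC87.kerChar_normal θ.1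
  have hBf : Finset.univ.filter (· ∈ principalBlock M G) = {oneIrr G, χ, ψ} := by
    ext φ
    simp [hB]
  have hsum3 : ∀ f : IrrCharacter G → ℂ,
      ∑ φ ∈ ({oneIrr G, χ, ψ} : Finset (IrrCharacter G)), f φ = f (oneIrr G) + f χ + f ψ := by
    intro f
    rw [Finset.sum_insert (by simp [h1, h2]), Finset.sum_pair h3, add_assoc]
  obtain ⟨c, hc, hexp⟩ := regPart_eq_sum hM (oneIrr_mem (G := G) (M := M))
  have hmemN : ∀ g : G, g ∈ N ↔ ¬ p ∣ orderOf g := by
    intro g
    constructor
    · intro hg hd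
      have e1 := hexp g
      have e2 := hexp 1
      rw [if_pos hd] at e1
      rw [if_neg (by rw [orderOf_one]; exact hp.1.not_dvd_one)] at e2
      have : (1 : ℂ) = 0 := by
        rw [show (1 : ℂ) = ((oneIrr G : IrrCharacter G) : G → ℂ) 1 from rfl, e2]
        rw [e1]
        refine Finset.sum_congr rfl fun φ hφ => ?_
        have := (Subgroup.mem_iInf.1 hg) ⟨φ, (Finset.mem_filter.1 hφ).2⟩
        rw [BC87.mem_kerChar] at this
        rw [this]
      exact one_ne_zero this
    · exact fun hg => Subgroup.mem_iInf.2 fun θ => BC87.mem_kerChar.2 (hI θ.1 θ.2 g hg)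
  have hcardR : (Finset.univ.filter fun g : G => ¬ p ∣ orderOf g).card = Nat.card N := by
    rw [← Fintype.card_subtype, ← Nat.card_eq_fintype_card]
    exact Nat.card_congr (Equiv.subtypeEquivRight fun g => (hmemN g).symm)
  have hNp : ¬ p ∣ Nat.card N := by
    intro h
    obtain ⟨x, hx⟩ := exists_prime_orderOf_dvd_card' p h
    exact (hmemN x.1).1 x.2 (by rw [Subgroup.orderOf_coe, hx])
  have hQ : IsPGroup p (G ⧸ N) := by
    rw [IsPGroup.iff_orderOf]
    intro q
    obtain ⟨g, rfl⟩ := QuotientGroup.mk_surjective q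
    obtain ⟨x, y, hxy, -, ⟨k, hk⟩, hy⟩ := exists_pPart hp.1 g
    have he : (g : G ⧸ N) = QuotientGroup.mk' N x := by
      rw [← hxy, QuotientGroup.mk_mul, (QuotientGroup.eq_one_iff y).2 ((hmemN y).2 hy), mul_one]
      rfl
    rw [he]
    obtain ⟨i, -, hi⟩ := (Nat.dvd_prime_pow hp.1).1 (hk ▸ orderOf_map_dvd (QuotientGroup.mk' N) x)
    exact ⟨i, hi⟩
  obtain ⟨n, hn⟩ := IsPGroup.iff_card.1 hQ
  have hGN : Nat.card G = p ^ n * Nat.card N := by
    rw [← hn, Subgroup.card_eq_card_quotient_mul_card_subgroup N]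
  have hD : Nat.card (D : Subgroup G) = p ^ n := by
    rw [D.card_eq_multiplicity, hGN, Nat.factorization_mul (pow_ne_zero _ hp.1.ne_zero)
      Nat.card_pos.ne', hp.1.factorization_pow, Finsupp.add_apply, Finsupp.single_eq_same,
      Nat.factorization_eq_zero_of_not_dvd hNp, add_zero]
  have hdeg : ∀ φ ∈ principalBlock M G, ∃ i, charDegree (φ : G → ℂ) = p ^ i := by
    intro φ hφ
    obtain ⟨θ, hθ⟩ := (BC87.inflEquiv N).surjective ⟨φ, iInf_le _ (⟨φ, hφ⟩ : {θ : IrrCharacter G // θ ∈ principalBlock M G})⟩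
    have hv : (θ : G ⧸ N → ℂ) 1 = (φ : G → ℂ) 1 := by
      have := BC87.inflEquiv_apply N θ 1
      rw [hθ] at this
      exact this.symm
    have hd : charDegree (θ : G ⧸ N → ℂ) = charDegree (φ : G → ℂ) :=
      BC87.charDegree_eq (by rw [hv, BC87.apply_one_eq])
    obtain ⟨i, -, hi⟩ := (Nat.dvd_prime_pow hp.1).1 (hn ▸ hd ▸ BC87.charDegree_dvd_card θ)
    exact ⟨i, hi⟩
  have hcv : ∀ φ ∈ principalBlock M G,
      c φ = (Nat.card G : ℂ)⁻¹ * ((Nat.card N : ℂ) * (charDegree (φ : G → ℂ) : ℂ)) := by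
    intro φ hφ
    rw [hc, classInner, ← hcardR]
    congr 1
    rw [← nsmul_eq_mul, ← Finset.sum_const, Finset.sum_filter]
    refine Finset.sum_congr rfl fun g _ => ?_
    by_cases hg : p ∣ orderOf g
    · simp [hg]
    · simp [hg, oneIrr, hI φ hφ g hg, BC87.apply_one_eq]
  have e := hexp 1
  rw [if_neg (by rw [orderOf_one]; exact hp.1.not_dvd_one), hBf, hsum3,
    hcv _ ((hB _).2 (Or.inl rfl)), hcv _ ((hB _).2 (Or.inr (Or.inl rfl))),
    hcv _ ((hB _).2 (Or.inr (Or.inr rfl))), BC87.apply_one_eq, BC87.apply_one_eq,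
    BC87.apply_one_eq, BC87.charDegree_eq (n := 1) (χ := (oneIrr G : G → ℂ)) (by simp [oneIrr])] at e
  obtain ⟨i, hi⟩ := hdeg χ ((hB χ).2 (Or.inr (Or.inl rfl)))
  obtain ⟨j, hj⟩ := hdeg ψ ((hB ψ).2 (Or.inr (Or.inr rfl)))
  rw [hi, hj, hGN] at e
  have hN0 : (Nat.card N : ℂ) ≠ 0 := Nat.cast_ne_zero.2 Nat.card_pos.ne'
  have hpn : ((p : ℂ) ^ n) ≠ 0 := pow_ne_zero _ (Nat.cast_ne_zero.2 hp.1.ne_zero)
  have e' : ((1 + (p ^ i) ^ 2 + (p ^ j) ^ 2 : ℕ) : ℂ) = ((p ^ n : ℕ) : ℂ) := by
    push_cast at e ⊢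
    field_simp at e
    linear_combination -e
  rw [hD]
  exact nat_square_split hp.1 (Nat.cast_injective e')

theorem card_sylow_of_three (hM : IsPModular p M) (hk : Nat.card (principalBlock M G) = 3)
    (D : Sylow p G) : Nat.card (D : Subgroup G) = 3 := by
  classical
  haveI := isPrime hM
  have hone : oneIrr G ∈ principalBlock M G := oneIrr_mem
  set Bf := Finset.univ.filter (· ∈ principalBlock M G) with hBfd
  have hcard : Bf.card = 3 := by
    rw [← hk, Nat.card_eq_fintype_card, ← Set.toFinset_card]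
    exact Finset.card_bij (fun x _ => x) (fun x hx => Set.mem_toFinset.2 (Finset.mem_filter.1 hx).2)
      (fun _ _ _ _ h => h)
      (fun x hx => ⟨x, Finset.mem_filter.2 ⟨Finset.mem_univ _, Set.mem_toFinset.1 hx⟩, rfl⟩)
  have hone' : oneIrr G ∈ Bf := Finset.mem_filter.2 ⟨Finset.mem_univ _, hone⟩
  obtain ⟨χ, ψ, h3, hpair⟩ := Finset.card_eq_two.1
    (show (Bf.erase (oneIrr G)).card = 2 by rw [Finset.card_erase_of_mem hone', hcard])
  have hB : ∀ φ : IrrCharacter G,
      φ ∈ principalBlock M G ↔ φ = oneIrr G ∨ φ = χ ∨ φ = ψ := by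
    intro φ
    have := congrArg (φ ∈ ·) hpair
    simp [Bf] at this
    by_cases hφ : φ = oneIrr G
    · simp [hφ, hone]
    · simpa [hφ] using this
  have h1 : oneIrr G ≠ χ := fun h => by
    have : χ ∈ Bf.erase (oneIrr G) := hpair ▸ Finset.mem_insert_self _ _
    exact (Finset.mem_erase.1 this).1 h.symm
  have h2 : oneIrr G ≠ ψ := fun h => by
    have : ψ ∈ Bf.erase (oneIrr G) :=
      hpair ▸ Finset.mem_insert_of_mem (Finset.mem_singleton_self _)
    exact (Finset.mem_erase.1 this).1 h.symm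
  by_cases hI : ∀ θ ∈ principalBlock M G, ∀ g : G, ¬ p ∣ orderOf g →
      (θ : G → ℂ) g = (θ : G → ℂ) 1
  · exact case_regular_const hM D hB h1 h2 h3 hI
  push Not at hI
  obtain ⟨χ0, hχ0, g0, hg0, hne0⟩ := hI
  have hBf : Bf = {oneIrr G, χ, ψ} := by
    ext φ
    simp [Bf, hB]
  have hsum3 : ∀ f : IrrCharacter G → ℂ,
      ∑ φ ∈ Bf, f φ = f (oneIrr G) + f χ + f ψ := by
    intro f
    rw [hBf, Finset.sum_insert (by simp [h1, h2]), Finset.sum_pair h3, add_assoc]
  -- the prime divides the group order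
  have hpG : p ∣ Nat.card G := by
    by_contra hn
    have h0 := (BC86.mem_principalBlock_iff hM χ).1 ((hB χ).2 (Or.inr (Or.inl rfl)))
    refine h0 ?_
    rw [Finset.sum_congr rfl fun g _ => if_neg fun h => hn (h.trans (orderOf_dvd_natCard g)),
      sum_irr, if_neg h1.symm]
  obtain ⟨u, hu⟩ := exists_prime_orderOf_dvd_card' p hpG
  have hud : p ∣ orderOf u := hu ▸ dvd_rfl
  have hconst : ∀ φ ∈ principalBlock M G, ∀ g : G, p ∣ orderOf g →
      (φ : G → ℂ) g = (φ : G → ℂ) u :=
    fun φ hφ g hg => const_of_three hM hk hχ0 hg0 hne0 hφ hg hud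
  have hDcard := D.card_eq_multiplicity
  have hD1 : 1 < Nat.card (D : Subgroup G) := by
    rw [hDcard]
    exact Nat.one_lt_pow (hp.1.factorization_pos_of_dvd Nat.card_pos.ne' hpG).ne' hp.1.one_lt
  have hval : ∀ φ ∈ principalBlock M G, ∃ a : ℤ, (φ : G → ℂ) u = (a : ℂ) ∧
      (Nat.card (D : Subgroup G) : ℤ) ∣ ((charDegree (φ : G → ℂ) : ℕ) : ℤ) - a := by
    intro φ hφ
    refine exists_int_value φ _ hD1 fun x hx hx1 => hconst φ hφ x ?_
    obtain ⟨k, hk'⟩ := IsPGroup.iff_orderOf.1 D.2 ⟨x, hx⟩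
    rw [← Subgroup.orderOf_coe] at hk'
    rw [show orderOf x = p ^ k from hk']
    refine dvd_pow_self p fun h0 => hx1 ?_
    rw [h0, pow_zero, orderOf_eq_one_iff] at hk'
    exact hk'
  obtain ⟨a, ha, had⟩ := hval χ ((hB χ).2 (Or.inr (Or.inl rfl)))
  obtain ⟨b, hb, hbd⟩ := hval ψ ((hB ψ).2 (Or.inr (Or.inr rfl)))
  set x := charDegree (χ : G → ℂ) with hx
  set y := charDegree (ψ : G → ℂ) with hy
  -- orthogonality between the identity and `u`
  have E1 : 1 + (x : ℤ) * a + (y : ℤ) * b = 0 := by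
    have h := weakOrth hM (isPBlock_principal (M := M) (G := G))
      (x := 1) (y := u) (by rw [orderOf_one]; exact hp.1.not_dvd_one) hud
    rw [finsum_mem_eq_finite_toFinset_sum _ (Set.toFinite _),
      show (Set.toFinite (principalBlock M G)).toFinset = Bf by ext; simp [Bf], hsum3,
      BC87.apply_one_eq, BC87.apply_one_eq χ, BC87.apply_one_eq ψ, ha, hb,
      BC87.charDegree_eq (n := 1) (χ := (oneIrr G : G → ℂ)) (by simp [oneIrr])] at h
    simp [oneIrr, ← hx, ← hy] at h
    exact_mod_cast h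
  -- the number of singular elements
  set S := Finset.univ.filter fun g : G => p ∣ orderOf g with hS
  have hs0 : (S.card : ℂ) ≠ 0 := Nat.cast_ne_zero.2
    (Finset.card_pos.2 ⟨u, Finset.mem_filter.2 ⟨Finset.mem_univ _, hud⟩⟩).ne'
  have hN0 : (Nat.card G : ℂ) ≠ 0 := Nat.cast_ne_zero.2 Nat.card_pos.ne'
  obtain ⟨c, hc, hexp⟩ := regPart_eq_sum hM hone
  have hreg : ∀ φ ∈ principalBlock M G,
      ∑ g : G, (if p ∣ orderOf g then 0 else (φ : G → ℂ) g) =
        (if φ = oneIrr G then (Nat.card G : ℂ) else 0) - S.card * (φ : G → ℂ) u := by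
    intro φ hφ
    rw [← sum_irr, ← nsmul_eq_mul, ← Finset.sum_const, hS, Finset.sum_filter,
      ← Finset.sum_sub_distrib]
    refine Finset.sum_congr rfl fun g _ => ?_
    by_cases hg : p ∣ orderOf g
    · simp [hg, hconst φ hφ g hg]
    · simp [hg]
  have hnz : ∀ φ ∈ principalBlock M G, φ ≠ oneIrr G → (φ : G → ℂ) u ≠ 0 := by
    intro φ hφ hne h0
    have := (BC86.mem_principalBlock_iff hM φ).1 hφ
    rw [hreg φ hφ, if_neg hne, h0] at this
    simp at this
  have ha0 : a ≠ 0 := fun h => hnz χ ((hB χ).2 (Or.inr (Or.inl rfl))) h1.symm (by simp [ha, h])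
  have hb0 : b ≠ 0 := fun h => hnz ψ ((hB ψ).2 (Or.inr (Or.inr rfl))) h2.symm (by simp [hb, h])
  have hcv : ∀ φ ∈ principalBlock M G, c φ =
      (if φ = oneIrr G then 1 else 0) - (Nat.card G : ℂ)⁻¹ * (S.card * conj ((φ : G → ℂ) u)) := by
    intro φ hφ
    have h := congrArg conj (hreg φ hφ)
    rw [map_sum, map_sub, map_mul, Complex.conj_natCast] at h
    have h' : ∑ g : G, (if p ∣ orderOf g then 0 else ((oneIrr G : IrrCharacter G) : G → ℂ) g) *
        conj ((φ : G → ℂ) g) = (if φ = oneIrr G then (Nat.card G : ℂ) else 0) -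
          S.card * conj ((φ : G → ℂ) u) := by
      refine Eq.trans (Finset.sum_congr rfl fun g _ => ?_) (h.trans ?_)
      · by_cases hg : p ∣ orderOf g <;> simp [hg, oneIrr]
      · by_cases he : φ = oneIrr G <;> simp [he]
    rw [hc, classInner, h', mul_sub]
    by_cases he : φ = oneIrr G <;> simp [he, inv_mul_cancel₀ hN0]
  set t : ℂ := (Nat.card G : ℂ)⁻¹ * S.card with ht
  have hind : ∀ g : G, (if p ∣ orderOf g then 1 else 0 : ℂ) =
      t * (1 + a * (χ : G → ℂ) g + b * (ψ : G → ℂ) g) := by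
    intro g
    have e := hexp g
    rw [hsum3, hcv _ hone, hcv _ ((hB χ).2 (Or.inr (Or.inl rfl))),
      hcv _ ((hB ψ).2 (Or.inr (Or.inr rfl))), if_pos rfl, if_neg h1.symm, if_neg h2.symm,
      ha, hb] at e
    by_cases hg : p ∣ orderOf g
    · rw [if_pos hg] at e ⊢
      simp [oneIrr] at e
      rw [ht, Nat.card_eq_fintype_card]
      linear_combination -e
    · rw [if_neg hg] at e ⊢
      simp [oneIrr] at e
      rw [ht, Nat.card_eq_fintype_card]
      linear_combination -e
  have hdvd : (Nat.card (D : Subgroup G) : ℤ) ∣ 1 + a ^ 2 + b ^ 2 := by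
    have : 1 + a ^ 2 + b ^ 2 = -(((x : ℤ) - a) * a + ((y : ℤ) - b) * b) := by
      linear_combination E1
    rw [this]
    exact (Dvd.dvd.add (had.mul_right _) (hbd.mul_right _)).neg_right
  by_cases hp2 : p = 2
  · exfalso
    subst hp2
    obtain ⟨n, hn⟩ := IsPGroup.iff_card.1 D.2
    have hn1 : 1 ≤ n := by
      by_contra h
      rw [show n = 0 by omega, pow_zero] at hn
      exact hD1.ne' hn
    rcases (Nat.lt_or_ge n 2) with hlt | hge
    · have hD2 : Nat.card (D : Subgroup G) = 2 := by rw [hn, show n = 1 by omega, pow_one]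
      have hodd := card_odd_of_sylow_two D hD2
      have hsplit : (Finset.univ.filter fun g : G => ¬ 2 ∣ orderOf g).card + S.card = Nat.card G := by
        rw [hS, add_comm, Finset.card_filter_add_card_filter_not, Finset.card_univ,
          Nat.card_eq_fintype_card]
      have h2s : (Nat.card G : ℂ) = 2 * S.card := by
        exact_mod_cast (by omega : Nat.card G = 2 * S.card)
      have e := hind u
      rw [if_pos hud, ha, hb, ht, h2s] at e
      field_simp at e
      have e' : a * a + b * b = (1 : ℤ) := by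
        have : ((a * a + b * b : ℤ) : ℂ) = ((1 : ℤ) : ℂ) := by
          push_cast
          linear_combination -e
        exact_mod_cast this
      have := mul_self_pos.2 ha0
      have := mul_self_pos.2 hb0
      linarith
    · have h4 : (4 : ℤ) ∣ 1 + a ^ 2 + b ^ 2 := by
        refine (Int.natCast_dvd_natCast.2 ?_ : ((4 : ℕ) : ℤ) ∣ (Nat.card (D : Subgroup G) : ℤ)).trans hdvd
        rw [hn]
        exact pow_dvd_pow 2 hge
      have hz := (ZMod.intCast_zmod_eq_zero_iff_dvd _ 4).2 h4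
      push_cast at hz
      revert hz
      generalize (a : ZMod 4) = a'
      generalize (b : ZMod 4) = b'
      revert a' b'
      decide
  -- the indicator step
  set ν : IrrCharacter G → ℂ := fun φ => (Nat.card G : ℂ)⁻¹ * ∑ s : G, (φ : G → ℂ) (s * s) with hν
  have hFS : 1 + a * ν χ + b * ν ψ = (1 : ℂ) := by
    have hsumI : ∑ s : G, (if p ∣ orderOf (s * s) then 1 else 0 : ℂ) = (S.card : ℂ) := by
      rw [Finset.sum_congr rfl fun s _ => if_congr (not_dvd_orderOf_mul_self_iff hp.1 hp2 s) rfl rfl,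
        Finset.sum_boole]
    rw [Finset.sum_congr rfl fun s _ => hind (s * s), ← Finset.mul_sum, Finset.sum_add_distrib,
      Finset.sum_add_distrib, ← Finset.mul_sum, ← Finset.mul_sum, Finset.sum_const,
      Finset.card_univ, nsmul_one, ← Nat.card_eq_fintype_card, ht] at hsumI
    rw [hν]
    field_simp
    field_simp at hsumI
    linear_combination hsumI
  -- both nonprincipal characters are real
  have hreal : ∀ φ φ' : IrrCharacter G, φ ∈ principalBlock M G → φ ≠ oneIrr G →
      (∀ θ : IrrCharacter G, θ ∈ principalBlock M G → θ = oneIrr G ∨ θ = φ ∨ θ = φ') →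
      (∀ i j : ℤ, (φ : G → ℂ) u = (i : ℂ) → (φ' : G → ℂ) u = (j : ℂ) →
        1 + (charDegree (φ : G → ℂ) : ℤ) * i + (charDegree (φ' : G → ℂ) : ℤ) * j = 0) →
      ∀ g, ((φ : G → ℂ) g).im = 0 := by
    intro φ φ' hφ hne hall hE
    have hc' := BC86.galoisIrr_mem_principalBlock hM (starRingEnd ℂ) hφ
    rcases hall _ hc' with h | h | h
    · exfalso
      apply hne
      apply Subtype.ext
      funext g
      have := congrFun (congrArg Subtype.val h) g
      simp [Blocks88.galoisIrr, oneIrr] at this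
      show (φ : G → ℂ) g = 1
      rw [← Complex.conj_conj ((φ : G → ℂ) g), this, map_one]
    · intro g
      exact Complex.conj_eq_iff_im.1 (congrFun (congrArg Subtype.val h) g)
    · exfalso
      obtain ⟨i, hi, -⟩ := hval φ hφ
      have hu' : (φ' : G → ℂ) u = (i : ℂ) := by
        rw [← congrFun (congrArg Subtype.val h) u]
        simp [Blocks88.galoisIrr, hi]
      have hdeq : charDegree (φ' : G → ℂ) = charDegree (φ : G → ℂ) :=
        BC87.charDegree_eq (by
          refine (congrFun (congrArg Subtype.val h) 1).symm.trans ?_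
          show conj ((φ : G → ℂ) 1) = _
          rw [BC87.apply_one_eq, Complex.conj_natCast])
      have := hE i i hi hu'
      rw [hdeq] at this
      omega
  have hrχ := hreal χ ψ ((hB χ).2 (Or.inr (Or.inl rfl))) h1.symm (fun θ h => (hB θ).1 h)
    (fun i j hi hj => by
      rw [show i = a by exact_mod_cast hi.symm.trans ha, show j = b by exact_mod_cast hj.symm.trans hb]
      exact E1)
  have hrψ := hreal ψ χ ((hB ψ).2 (Or.inr (Or.inr rfl))) h2.symm
    (fun θ h => by rcases (hB θ).1 h with h | h | h <;> simp [h])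
    (fun i j hi hj => by
      rw [show i = b by exact_mod_cast hi.symm.trans hb, show j = a by exact_mod_cast hj.symm.trans ha]
      linear_combination E1)
  have hab : a ^ 2 = b ^ 2 := by
    have h := congrArg (· ^ 2) (show (a : ℂ) * ν χ = -((b : ℂ) * ν ψ) by linear_combination hFS)
    simp only [mul_pow, neg_sq] at h
    rw [hν] at h
    simp only [indicator_sq χ hrχ, indicator_sq ψ hrψ, mul_one] at h
    exact_mod_cast h
  have ha1 : a ^ 2 = 1 := by
    have hu1 : IsUnit a := by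
      rcases sq_eq_sq_iff_eq_or_eq_neg.1 hab with h | h
      · exact IsUnit.of_mul_eq_one (-((x : ℤ) + y)) (by rw [← h] at E1; linear_combination -E1)
      · exact IsUnit.of_mul_eq_one ((y : ℤ) - x) (by
          rw [show b = -a by omega] at E1; linear_combination -E1)
    exact Int.isUnit_sq hu1
  rw [← hab, ha1] at hdvd
  have hdvd' : (Nat.card (D : Subgroup G) : ℤ) ∣ ((3 : ℕ) : ℤ) := hdvd
  exact (Nat.dvd_prime Nat.prime_three).1 (Int.natCast_dvd_natCast.1 hdvd') |>.resolve_left hD1.ne'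

end Cfsg.Agent.K3B9
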